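import Groth.Agent.DiagAction.CentralSubgroup
import Groth.Agent.FibrewiseCrit.MultType

/-!
The locus where a homomorphism out of a group of multiplicative type and finite type is trivial is open and closed:
locally it is cut out by an idempotent ideal of coefficients.
-/

universe u

open CategoryTheory Limits MonoidalCategory CartesianMonoidalCategory MonObj GrpObj AlgebraicGeometry
open CoactBr Groth.Agent.DiagGrp Groth.Agent.DiagAction

set_option backward.isDefEq.respectTransparency false
set_option linter.style.haveILetI false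

noncomputable section

namespace Groth.Agent.CoeffLocus

/-- `u` is trivial above `t` -/
def Triv {S T : Scheme.{u}} {H G : Over S} [GrpObj G] (u : H ⟶ G) (t : T ⟶ S) : Prop :=
  ∀ (Y : Over S) (_ : Y ⟶ Over.mk t) (h : Y ⟶ H), h ≫ u = 1

variable {S : Scheme.{u}} {H G : Over S} [GrpObj H] [GrpObj G] {u : H ⟶ G}

theorem Triv.comp {T T' : Scheme.{u}} {t : T ⟶ S} (k : T' ⟶ T) (h : Triv u t) : Triv u (k ≫ t) :=
  fun Y p y => h Y (p ≫ Over.homMk k) y

theorem triv_of_cover {T T' : Scheme.{u}} (t : T ⟶ S) (q : T' ⟶ T) [Flat q] [Surjective q]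
    (h : Triv u (q ≫ t)) : Triv u t := by
  intro Y p y
  apply Over.OverMorphism.ext
  let Y' : Over S := Over.mk (pullback.fst p.left q ≫ Y.hom)
  let k : Y' ⟶ Y := Over.homMk (pullback.fst p.left q)
  let p' : Y' ⟶ Over.mk (q ≫ t) := Over.homMk (pullback.snd p.left q) (by
    show pullback.snd p.left q ≫ q ≫ t = pullback.fst p.left q ≫ Y.hom
    rw [← Over.w p, ← Category.assoc, ← pullback.condition, Category.assoc]
    rfl)
  haveI : Epi (pullback.fst p.left q) := Flat.epi_of_flat_of_surjective _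
  rw [← cancel_epi (pullback.fst p.left q)]
  have e := h Y' p' (k ≫ y)
  rw [Category.assoc, ← MonObj.comp_one k] at e
  exact congrArg CommaMorphism.left e

theorem triv_of_local {T : Scheme.{u}} (t : T ⟶ S)
    (h : ∀ x : T, ∃ U : T.Opens, x ∈ U ∧ Triv u (U.ι ≫ t)) : Triv u t := by
  intro Y p y
  apply Over.OverMorphism.ext
  choose U hU hUt using h
  refine (Y.left.openCoverOfIsOpenCover (fun x => p.left ⁻¹ᵁ U x) (eq_top_iff.mpr fun z _ =>
    TopologicalSpace.Opens.mem_iSup.mpr ⟨p.left z, hU (p.left z)⟩)).hom_ext _ _ fun x => ?_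
  let Y' : Over S := Over.mk ((p.left ⁻¹ᵁ U x).ι ≫ Y.hom)
  let k : Y' ⟶ Y := Over.homMk (p.left ⁻¹ᵁ U x).ι
  let p' : Y' ⟶ Over.mk ((U x).ι ≫ t) := Over.homMk (p.left ∣_ U x) (by
    show (p.left ∣_ U x) ≫ (U x).ι ≫ t = (p.left ⁻¹ᵁ U x).ι ≫ Y.hom
    rw [← Category.assoc, morphismRestrict_ι, Category.assoc]
    congr 1
    exact Over.w p)
  have e := hUt x Y' p' (k ≫ y)
  rw [Category.assoc, ← MonObj.comp_one k] at e
  exact congrArg CommaMorphism.left e

theorem map_eq_one_iff {T : Scheme.{u}} (t : T ⟶ S) [IsMonHom u] :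
    (Over.pullback t).map u = 1 ↔ Triv u t := by
  constructor
  · intro e Y p y
    let Z : Over T := Over.mk p.left
    let i : (Over.map t).obj Z ≅ Y := Over.isoMk (Iso.refl _) ((Category.id_comp _).trans (Over.w p).symm)
    have h := congrArg (fun f => downP t (upP t (i.hom ≫ y) ≫ f)) e
    simp only [downP_comp_map, downP_upP, MonObj.comp_one, downP_one, Category.assoc] at h
    rw [← cancel_epi i.hom, h, MonObj.comp_one]
  · intro h
    have e := h ((Over.map t).obj (Red.bc t H)) (Over.homMk (Red.bc t H).hom rfl) (downP t (𝟙 _))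
    rw [← downP_comp_map, Category.id_comp] at e
    rw [← upP_downP t ((Over.pullback t).map u), e, ← downP_one t (Y := G) (Z := Red.bc t H), upP_downP]

/-- the coefficient ideal -/
theorem exists_coeff_ideal {A : Type u} [CommRing A] {M : Type} [CommGroup M] (I : Ideal (MonoidAlgebra A M))
    (hI : I.FG) : ∃ c : Ideal A, c.FG ∧ ∀ (B : Type u) [CommRing B] (f : A →+* B),
      I ≤ RingHom.ker (MonoidAlgebra.mapRingHom M f) ↔ c ≤ RingHom.ker f := by
  classical
  obtain ⟨s, rfl⟩ := hI
  let T : Finset A := s.biUnion fun x => x.coeff.support.image x.coeff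
  refine ⟨Ideal.span T, ⟨T, rfl⟩, fun B _ f => ?_⟩
  constructor
  · intro h
    refine Ideal.span_le.mpr fun a ha => ?_
    obtain ⟨x, hx, hax⟩ := Finset.mem_biUnion.mp ha
    obtain ⟨m, -, rfl⟩ := Finset.mem_image.mp hax
    have h1 := congrArg (fun w => w.coeff m) (RingHom.mem_ker.mp (h (Ideal.subset_span hx)))
    simpa using h1
  · intro h
    refine Ideal.span_le.mpr fun x hx => RingHom.mem_ker.mpr (MonoidAlgebra.ext (Finsupp.ext fun m => ?_))
    by_cases hm : m ∈ x.coeff.support
    · simpa using RingHom.mem_ker.mp (h (Ideal.subset_span (Finset.mem_biUnion.mpr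
        ⟨x, hx, Finset.mem_image.mpr ⟨m, hm, rfl⟩⟩)))
    · simp [Finsupp.notMem_support_iff.mp hm]

theorem exists_killer {A : Type u} [CommRing A] (c : Ideal A) (hc : c.FG) (p : PrimeSpectrum A)
    (h : c.map (algebraMap A (Localization.AtPrime p.asIdeal)) = ⊥) :
    ∃ a : A, a ∉ p.asIdeal ∧ ∀ x ∈ c, a * x = 0 := by
  classical
  obtain ⟨s, rfl⟩ := hc
  have hx : ∀ x ∈ s, ∃ m : p.asIdeal.primeCompl, (m : A) * x = 0 := fun x hx => by
    have : algebraMap A (Localization.AtPrime p.asIdeal) x = 0 := by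
      have := Ideal.mem_map_of_mem (algebraMap A (Localization.AtPrime p.asIdeal))
        (Ideal.subset_span (s := (s : Set A)) hx)
      rwa [h, Ideal.mem_bot] at this
    exact (IsLocalization.map_eq_zero_iff p.asIdeal.primeCompl _ x).mp this
  choose m hm using hx
  refine ⟨∏ x : s, (m x.1 x.2 : A), ?_, fun x hx => ?_⟩
  · intro hmem
    obtain ⟨x, -, hxp⟩ := (p.isPrime.prod_mem_iff).mp hmem
    exact (m x.1 x.2).2 hxp
  · induction hx using Submodule.span_induction with
    | mem y hy =>
      rw [← Finset.prod_erase_mul (a := (⟨y, hy⟩ : s)) Finset.univ _ (Finset.mem_univ _), _root_.mul_assoc, hm y hy,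
        mul_zero]
    | zero => simp
    | add y z _ _ hy hz => rw [_root_.mul_add, hy, hz, add_zero]
    | smul r y _ hy => rw [smul_eq_mul, ← _root_.mul_assoc, _root_.mul_comm _ r, _root_.mul_assoc, hy, mul_zero]

theorem coeff_thickening {A : Type u} [CommRing A] {M : Type} [CommGroup M]
    {Gv : Over (Spec (CommRingCat.of A))} [GrpObj Gv] (w : sp A (MonoidAlgebra A M) ⟶ Gv) [IsMonHom w]
    (c : Ideal A)
    (hwc : ∀ (B : Type u) [CommRing B] [Algebra A B], c ≤ RingHom.ker (algebraMap A B) →
      ∀ k : MonoidAlgebra A M →ₐ[A] B, pt k ≫ w = 1)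
    {B : Type u} [CommRing B] [Algebra A B] (hJ : IsNilpotent (c.map (algebraMap A B))) :
    pt (incl A B M) ≫ w = 1 := by
  let wB : sp B (MonoidAlgebra B M) ⟶ Red.bc (str A B) Gv :=
    uMap A B M ≫ (Over.pullback (str A B)).map w
  have h1 : wB = 1 := hom_trivial_affine _ hJ ⟨Iso.refl _⟩ wB fun C _ _ hC g => by
    letI : Algebra A C := Algebra.compHom C (algebraMap A B)
    haveI : IsScalarTower A B C := IsScalarTower.of_algebraMap_eq fun _ => rfl
    apply DiagGrp.down_injective (k := A)
    rw [← Category.assoc, down_comp_map, down_one]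
    obtain ⟨k, hk⟩ := pt_surjective (down (K := B) (g ≫ uMap A B M))
    rw [← hk]
    refine hwc C (fun x hx => ?_) k
    show algebraMap A C x = 0
    rw [IsScalarTower.algebraMap_apply A B C]
    exact hC _ (Ideal.mem_map_of_mem _ hx)
  have := congrArg down h1
  rwa [down_comp_map, down_one, uMap, down_up] at this

theorem coeff_local {A : Type u} [CommRing A] {M : Type} [CommGroup M]
    {Gv : Over (Spec (CommRingCat.of A))} [GrpObj Gv] (w : sp A (MonoidAlgebra A M) ⟶ Gv) [IsMonHom w]
    (c : Ideal A) (hc : c.FG)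
    (hwc : ∀ (B : Type u) [CommRing B] [Algebra A B], c ≤ RingHom.ker (algebraMap A B) →
      ∀ k : MonoidAlgebra A M →ₐ[A] B, pt k ≫ w = 1)
    (huniv : ∀ (B : Type u) [CommRing B] [Algebra A B],
      pt (incl A B M) ≫ w = 1 → c ≤ RingHom.ker (algebraMap A B))
    (p : PrimeSpectrum A) (hp : c ≤ p.asIdeal) :
    ∃ a : A, a ∉ p.asIdeal ∧ ∀ x ∈ c, a * x = 0 := by
  refine exists_killer c hc p ?_
  let cq : Ideal (Localization.AtPrime p.asIdeal) := c.map (algebraMap A (Localization.AtPrime p.asIdeal))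
  let mq := IsLocalRing.maximalIdeal (Localization.AtPrime p.asIdeal)
  let B : Type u := Localization.AtPrime p.asIdeal ⧸ (mq * cq)
  let Jb : Ideal B := c.map (algebraMap A B)
  have hJb : Jb = cq.map (Ideal.Quotient.mk (mq * cq)) := by
    simp only [Jb, cq, Ideal.map_map]
    rfl
  have hJ : IsNilpotent Jb := by
    refine ⟨2, ?_⟩
    rw [hJb, ← Ideal.map_pow, Ideal.zero_eq_bot, Ideal.map_eq_bot_iff_le_ker, Ideal.mk_ker, pow_two]
    refine Ideal.mul_mono_left ?_
    refine Ideal.map_le_iff_le_comap.mpr ?_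
    exact hp.trans (le_of_eq (IsLocalization.AtPrime.under_maximalIdeal (Localization.AtPrime p.asIdeal) p.asIdeal).symm)
  have h3 := huniv B (coeff_thickening w c hwc hJ)
  have h4 : cq ≤ mq * cq := Ideal.map_le_iff_le_comap.mpr fun x hx => by
    have h5 : Ideal.Quotient.mk (mq * cq) (algebraMap A (Localization.AtPrime p.asIdeal) x) = 0 := h3 hx
    show algebraMap A (Localization.AtPrime p.asIdeal) x ∈ mq * cq
    exact Ideal.Quotient.eq_zero_iff_mem.mp h5
  exact Submodule.eq_bot_of_le_smul_of_le_jacobson_bot mq cq (hc.map _) (by rwa [smul_eq_mul])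
    (IsLocalRing.maximalIdeal_le_jacobson _)

variable [IsMonHom u]

/-- the kernel of `u` as a closed subscheme of `H` -/
abbrev kerι (u : H ⟶ G) : pullback u.left (η[G] : 𝟙_ _ ⟶ G).left ⟶ H.left :=
  pullback.fst u.left (η[G] : 𝟙_ _ ⟶ G).left

theorem locallyOfFinitePresentation_kerι [IsSeparated G.hom]
    (hHft : LocallyOfFiniteType H.hom) (hG : IsLocallyNoetherian S ∨ LocallyOfFinitePresentation G.hom) :
    LocallyOfFinitePresentation (kerι u) := by
  have hηw : (η[G] : 𝟙_ _ ⟶ G).left ≫ G.hom = 𝟙 S := Over.w (η[G] : 𝟙_ _ ⟶ G)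
  haveI : IsClosedImmersion (η[G] : 𝟙_ _ ⟶ G).left := by
    haveI : IsClosedImmersion ((η[G] : 𝟙_ _ ⟶ G).left ≫ G.hom) := by rw [hηw]; exact inferInstanceAs (IsClosedImmersion (𝟙 S))
    exact IsClosedImmersion.of_comp _ G.hom
  rcases hG with hN | hfp
  · haveI := hHft
    haveI : IsLocallyNoetherian H.left := LocallyOfFiniteType.isLocallyNoetherian H.hom
    infer_instance
  · have : LocallyOfFinitePresentation (η[G] : 𝟙_ _ ⟶ G).left := by
      refine FibrewiseCrit.locallyOfFinitePresentation_of_comp _ G.hom ?_ inferInstance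
      rw [hηw]
      exact inferInstanceAs (LocallyOfFinitePresentation (𝟙 S))
    exact MorphismProperty.pullback_fst _ _ this

theorem exists_coeff_chart [IsSeparated G.hom] (hk : LocallyOfFinitePresentation (kerι u)) {A : Type u} [CommRing A]
    (v : Spec (CommRingCat.of A) ⟶ S) {M : Type} [CommGroup M]
    (he : Nonempty (Grp.mk (Red.bc v H) ≅ Grp.mk (sp A (MonoidAlgebra A M)))) :
    ∃ c : Ideal A, (∀ (B : Type u) [CommRing B] [Algebra A B],
        Triv u (Spec.map (CommRingCat.ofHom (algebraMap A B)) ≫ v) ↔ c ≤ RingHom.ker (algebraMap A B)) ∧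
      ∀ p : PrimeSpectrum A, c ≤ p.asIdeal → ∃ a : A, a ∉ p.asIdeal ∧ ∀ x ∈ c, a * x = 0 := by
  obtain ⟨E⟩ := he
  let e : sp A (MonoidAlgebra A M) ⟶ Red.bc v H := E.inv.hom.hom
  haveI : IsMonHom e := E.inv.hom.isMonHom_hom
  haveI : IsIso e := ((Grp.forget _).mapIso E).isIso_inv
  let w : sp A (MonoidAlgebra A M) ⟶ Red.bc v G := e ≫ (Over.pullback v).map u
  let t : Spec (CommRingCat.of (MonoidAlgebra A M)) ⟶ H.left := (downP v e).left
  let E' := pullback.fst t (kerι u)
  have hηw : (η[G] : 𝟙_ _ ⟶ G).left ≫ G.hom = 𝟙 S := Over.w (η[G] : 𝟙_ _ ⟶ G)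
  haveI : IsClosedImmersion (η[G] : 𝟙_ _ ⟶ G).left := by
    haveI : IsClosedImmersion ((η[G] : 𝟙_ _ ⟶ G).left ≫ G.hom) := by rw [hηw]; exact inferInstanceAs (IsClosedImmersion (𝟙 S))
    exact IsClosedImmersion.of_comp _ G.hom
  haveI : IsClosedImmersion E' := inferInstance
  haveI := hk
  haveI : LocallyOfFinitePresentation E' := inferInstance
  haveI : IsAffine (pullback t (kerι u)) := isAffine_of_isAffineHom E'
  obtain ⟨I, eI, hE⟩ := (IsClosedImmersion.Spec_iff (R := CommRingCat.of (MonoidAlgebra A M)) (f := E')).mp inferInstance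
  have hEinv : Spec.map (CommRingCat.ofHom (Ideal.Quotient.mk I)) = eI.inv ≫ E' := by
    rw [hE, Iso.inv_hom_id_assoc]
  have hI : I.FG := by
    haveI : LocallyOfFinitePresentation (Spec.map (CommRingCat.ofHom (Ideal.Quotient.mk I))) := by
      rw [hEinv]; infer_instance
    have hfp : (Ideal.Quotient.mk I).FinitePresentation :=
      (LocallyOfFinitePresentation.SpecMap_iff (CommRingCat.ofHom (Ideal.Quotient.mk I))).mp inferInstance
    haveI : Algebra.FinitePresentation (MonoidAlgebra A M) (MonoidAlgebra A M ⧸ I) := by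
      have h := hfp
      rw [RingHom.FinitePresentation] at h
      convert h using 1
    have h := Algebra.FinitePresentation.ker_fG_of_surjective (Ideal.Quotient.mkₐ (MonoidAlgebra A M) I) Ideal.Quotient.mk_surjective
    rwa [show RingHom.ker (Ideal.Quotient.mkₐ (MonoidAlgebra A M) I).toRingHom = I from Ideal.mk_ker] at h
  have hpts : ∀ (B : Type u) [CommRing B] [Algebra A B] (k : MonoidAlgebra A M →ₐ[A] B),
      I ≤ RingHom.ker k ↔ pt k ≫ w = 1 := by
    intro B _ _ k
    have hone : (1 : (Over.map v).obj (sp A B) ⟶ G).left =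
        ((Over.map v).obj (sp A B)).hom ≫ (η[G] : 𝟙_ _ ⟶ G).left := by
      rw [Hom.one_def, Over.comp_left]
      congr 1
    have h0 : (downP v (pt k ≫ w)).left = Spec.map (CommRingCat.ofHom (k : MonoidAlgebra A M →+* B)) ≫ t ≫ u.left := by
      simp only [w]
      rw [← Category.assoc (pt k) e, downP_comp_map, downP_comp, Over.comp_left, Over.comp_left, Category.assoc]
      rfl
    constructor
    · intro hle
      have hlift : (k : MonoidAlgebra A M →+* B) = (Ideal.Quotient.lift I (k : MonoidAlgebra A M →+* B) hle).comp (Ideal.Quotient.mk I) :=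
        (Ideal.Quotient.lift_comp_mk I _ _).symm
      let l : Spec (CommRingCat.of B) ⟶ pullback u.left (η[G] : 𝟙_ _ ⟶ G).left :=
        Spec.map (CommRingCat.ofHom (Ideal.Quotient.lift I (k : MonoidAlgebra A M →+* B) hle)) ≫
          eI.inv ≫ pullback.snd t (kerι u)
      have hl : Spec.map (CommRingCat.ofHom (k : MonoidAlgebra A M →+* B)) ≫ t = l ≫ kerι u := by
        rw [hlift, CommRingCat.ofHom_comp, Spec.map_comp, Category.assoc, hEinv, Category.assoc, pullback.condition]
        simp only [l, Category.assoc]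
      have h1 : (downP v (pt k ≫ w)).left = (l ≫ pullback.snd _ _) ≫ (η[G] : 𝟙_ _ ⟶ G).left := by
        rw [h0, ← Category.assoc, hl, Category.assoc, pullback.condition, Category.assoc]
        simp only [l, Category.assoc]
      have h2 : l ≫ pullback.snd _ _ = ((Over.map v).obj (sp A B)).hom := by
        have h3 := Over.w (downP v (pt k ≫ w))
        rw [h1, Category.assoc, hηw] at h3
        exact (Category.comp_id _).symm.trans h3
      rw [← upP_downP v (pt k ≫ w), ← upP_downP v (1 : sp A B ⟶ Red.bc v G), downP_one]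
      congr 1
      apply Over.OverMorphism.ext
      rw [h1, h2, hone]
    · intro hw x hx
      have h3 : Spec.map (CommRingCat.ofHom (k : MonoidAlgebra A M →+* B)) ≫ t ≫ u.left =
          ((Over.map v).obj (sp A B)).hom ≫ (η[G] : 𝟙_ _ ⟶ G).left := by
        rw [← h0, hw, downP_one, hone]
      let l := pullback.lift (f := t) (g := kerι u) (Spec.map (CommRingCat.ofHom (k : MonoidAlgebra A M →+* B)))
        (pullback.lift (Spec.map (CommRingCat.ofHom (k : MonoidAlgebra A M →+* B)) ≫ t)
          ((Over.map v).obj (sp A B)).hom (by rw [Category.assoc, h3])) (pullback.lift_fst _ _ _).symm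
      have hl : Spec.map (CommRingCat.ofHom (Ideal.Quotient.mk I) ≫ Spec.preimage (l ≫ eI.hom)) =
          Spec.map (CommRingCat.ofHom (k : MonoidAlgebra A M →+* B)) := by
        rw [Spec.map_comp, Spec.map_preimage, hEinv, Category.assoc, Iso.hom_inv_id_assoc]
        exact pullback.lift_fst _ _ _
      have := congrArg (fun f => f.hom x) (Spec.map_injective hl)
      simp only [CommRingCat.hom_comp, CommRingCat.hom_ofHom, RingHom.comp_apply, Ideal.Quotient.eq_zero_iff_mem.mpr hx, map_zero] at this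
      exact this.symm
  obtain ⟨c, hc, hcI⟩ := exists_coeff_ideal I hI
  have hincl : ∀ (B : Type u) [CommRing B] [Algebra A B],
      (incl A B M : MonoidAlgebra A M →+* MonoidAlgebra B M) = MonoidAlgebra.mapRingHom M (algebraMap A B) :=
    fun B _ _ => MonoidAlgebra.ringHom_ext (fun r => by simp [incl, Algebra.smul_def]) (fun m => by simp)
  have huniv : ∀ (B : Type u) [CommRing B] [Algebra A B],
      pt (incl A B M) ≫ w = 1 → c ≤ RingHom.ker (algebraMap A B) := fun B _ _ h => by
    refine (hcI B _).mp ?_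
    rw [← hincl]
    exact (hpts _ (incl A B M)).mpr h
  have hwc : ∀ (B : Type u) [CommRing B] [Algebra A B], c ≤ RingHom.ker (algebraMap A B) →
      ∀ k : MonoidAlgebra A M →ₐ[A] B, pt k ≫ w = 1 := by
    intro B _ _ hle k
    have h1 : pt (incl A B M) ≫ w = 1 := (hpts _ _).mp (by
      show I ≤ RingHom.ker (incl A B M : MonoidAlgebra A M →+* MonoidAlgebra B M)
      rw [hincl]
      exact (hcI B _).mpr hle)
    let k' : MonoidAlgebra B M →ₐ[B] B := MonoidAlgebra.lift B B M ((k : MonoidAlgebra A M →* B).comp (MonoidAlgebra.of A M))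
    rw [show k = (k'.restrictScalars A).comp (incl A B M) from algHom_ext_single fun m => by simp [k'], pt_comp,
      Category.assoc, h1, MonObj.comp_one]
  refine ⟨c, fun B _ _ => ?_, coeff_local w c hc hwc huniv⟩
  constructor
  · intro h
    refine huniv B ?_
    rw [← upP_downP v (pt (incl A B M) ≫ w), ← upP_downP v (1 : sp A (MonoidAlgebra B M) ⟶ Red.bc v G), downP_one]
    congr 1
    simp only [w]
    rw [← Category.assoc (pt (incl A B M)) e, downP_comp_map]
    refine h ((Over.map v).obj (sp A (MonoidAlgebra B M)))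
      (Over.homMk (Spec.map (CommRingCat.ofHom (algebraMap B (MonoidAlgebra B M)))) ?_) _
    show Spec.map _ ≫ Spec.map _ ≫ v = Spec.map _ ≫ v
    rw [← Category.assoc, ← Spec.map_comp, ← CommRingCat.ofHom_comp, ← IsScalarTower.algebraMap_eq]
  · intro hle Y p y
    let Z : Over (Spec (CommRingCat.of A)) := Over.mk (p.left ≫ Spec.map (CommRingCat.ofHom (algebraMap A B)))
    let i : (Over.map v).obj Z ≅ Y := Over.isoMk (Iso.refl _) (by
      show 𝟙 _ ≫ Y.hom = (p.left ≫ Spec.map _) ≫ v
      rw [Category.id_comp, Category.assoc]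
      exact (Over.w p).symm)
    have key : upP v (i.hom ≫ y) ≫ (Over.pullback v).map u = 1 := by
      refine hom_ext_affine _ _ fun C _ _ g => ?_
      obtain ⟨k, hk⟩ := pt_surjective (g ≫ upP v (i.hom ≫ y) ≫ inv e)
      rw [MonObj.comp_one, show g ≫ upP v (i.hom ≫ y) ≫ (Over.pullback v).map u = pt k ≫ w by
        simp only [w, hk, Category.assoc, IsIso.inv_hom_id_assoc]]
      refine hwc C ?_ k
      intro x hx
      have hg : g.left ≫ p.left ≫ Spec.map (CommRingCat.ofHom (algebraMap A B)) =
          Spec.map (CommRingCat.ofHom (algebraMap A C)) := Over.w g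
      have e1 : CommRingCat.ofHom (algebraMap A B) ≫ Spec.preimage (g.left ≫ p.left) = CommRingCat.ofHom (algebraMap A C) :=
        Spec.map_injective (by rw [Spec.map_comp, Spec.map_preimage, Category.assoc]; exact hg)
      have e2 := congrArg (fun f => f.hom x) e1
      simp only [CommRingCat.hom_comp, CommRingCat.hom_ofHom, RingHom.comp_apply, RingHom.mem_ker.mp (hle hx), map_zero] at e2
      exact e2.symm
    have h5 := congrArg (downP v) key
    rw [downP_comp_map, downP_upP, downP_one, Category.assoc] at h5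
    rw [← cancel_epi i.hom, h5, MonObj.comp_one]

end Groth.Agent.CoeffLocus
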