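import Groth.Agent.CoeffLocus.Basic
import Mathlib.AlgebraicGeometry.ResidueField

/-!
The trivial locus of a homomorphism out of a group of multiplicative type and finite type is open and closed.
-/

universe u

open CategoryTheory Limits MonoidalCategory CartesianMonoidalCategory MonObj GrpObj AlgebraicGeometry
open CoactBr Groth.Agent.DiagGrp Groth.Agent.DiagAction

set_option backward.isDefEq.respectTransparency false
set_option linter.style.haveILetI false

noncomputable section

namespace Groth.Agent.CoeffLocus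

theorem triv_residue_iff {S : Scheme.{u}} {H G : Over S} [GrpObj H] [GrpObj G] {u : H ⟶ G}
    {K : Type u} [Field K] (g : Spec (CommRingCat.of K) ⟶ S) (z : Spec (CommRingCat.of K)) :
    Triv u g ↔ Triv u (S.fromSpecResidueField (g z)) := by
  obtain ⟨⟨x, φ⟩, hxφ⟩ : ∃ p, (Scheme.SpecToEquivOfField K S).symm p = g :=
    ⟨Scheme.SpecToEquivOfField K S g, Equiv.symm_apply_apply _ _⟩
  have hg : Spec.map φ ≫ S.fromSpecResidueField x = g := hxφ
  have hx : g z = x := by
    rw [← hg, Scheme.Hom.comp_apply, Scheme.fromSpecResidueField_apply]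
  rw [hx, ← hg]
  haveI : Surjective (Spec.map φ) := ⟨fun y => ⟨z, Subsingleton.elim _ _⟩⟩
  haveI : Flat (Spec.map φ) := by
    rw [HasRingHomProperty.Spec_iff (P := @Flat)]
    letI := φ.hom.toAlgebra
    letI : Field (S.residueField x) := inferInstance
    exact RingHom.flat_algebraMap_iff.mpr (inferInstanceAs (Module.Flat (S.residueField x) K))
  exact ⟨fun h => triv_of_cover _ (Spec.map φ) h, fun h => h.comp _⟩

theorem exists_clopen_trivLocus {S : Scheme.{u}} (H G : Over S) [GrpObj H] [GrpObj G]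
    (hH : SGA3x.IsMultTypeFT H) [IsSeparated G.hom]
    (hG : IsLocallyNoetherian S ∨ LocallyOfFinitePresentation G.hom) (u : H ⟶ G) [IsMonHom u] :
    ∃ U : S.Opens, IsClosed (U : Set S) ∧ (∀ s : S, s ∈ U ↔ Triv u (S.fromSpecResidueField s)) ∧ Triv u U.ι := by
  have hk := locallyOfFinitePresentation_kerι (u := u) (FibrewiseCrit.locallyOfFiniteType_of_isMultTypeFT H hH) hG
  obtain ⟨S', f, hflat, hsurj, hcov, hloc⟩ := hH
  haveI : Flat f := hflat
  haveI : Surjective f := hsurj
  let T : Set S := {s | Triv u (S.fromSpecResidueField s)}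
  have hlocal : ∀ q : S', ∃ (V : S'.Opens) (hV : IsAffineOpen V) (c : Ideal Γ(S', V)), q ∈ V ∧
      (∀ p : PrimeSpectrum Γ(S', V), f (hV.fromSpec p) ∈ T ↔ c ≤ p.asIdeal) ∧
      (∀ p : PrimeSpectrum Γ(S', V), c ≤ p.asIdeal → ∃ a : Γ(S', V), a ∉ p.asIdeal ∧ (∀ x ∈ c, a * x = 0) ∧
        Triv u (Spec.map (CommRingCat.ofHom (algebraMap Γ(S', V) (Localization.Away a))) ≫ hV.fromSpec ≫ f)) := by
    intro q
    obtain ⟨O, hqO, M, _, _, hE⟩ := hloc q
    obtain ⟨_, ⟨V, hV, rfl⟩, hqV, hVO⟩ := S'.isBasis_affineOpens.exists_subset_of_mem_open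
      (show q ∈ (O : Set S') from hqO) O.isOpen
    replace hV : IsAffineOpen V := hV
    let j : Spec (CommRingCat.of Γ(S', V)) ⟶ O := IsOpenImmersion.lift O.ι hV.fromSpec (by
      intro z hz; exact (Scheme.Opens.range_ι O).ge (hVO (hV.range_fromSpec.le hz)))
    have hj : j ≫ O.ι ≫ f = hV.fromSpec ≫ f := by rw [← Category.assoc, IsOpenImmersion.lift_fac]
    have he := exists_chart_affine j (O.ι ≫ f) (hV.fromSpec ≫ f) hj H hE
    obtain ⟨c, hc, hca⟩ := exists_coeff_chart (A := Γ(S', V)) (M := Multiplicative M) hk (hV.fromSpec ≫ f) he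
    refine ⟨V, hV, c, hqV, fun p => ?_, fun p hp => ?_⟩
    · let g := Spec.map (CommRingCat.ofHom (algebraMap Γ(S', V) p.asIdeal.ResidueField)) ≫ hV.fromSpec ≫ f
      have hgz : g (default : PrimeSpectrum p.asIdeal.ResidueField) = f (hV.fromSpec p) := by
        simp only [g, Scheme.Hom.comp_apply]
        congr 2
        refine PrimeSpectrum.ext ?_
        show (default : PrimeSpectrum p.asIdeal.ResidueField).asIdeal.comap (algebraMap _ _) = p.asIdeal
        rw [show (default : PrimeSpectrum p.asIdeal.ResidueField).asIdeal = ⊥ from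
          ((default : PrimeSpectrum p.asIdeal.ResidueField).asIdeal.eq_bot_or_top).resolve_right
            (default : PrimeSpectrum p.asIdeal.ResidueField).isPrime.ne_top]
        exact Ideal.ker_algebraMap_residueField p.asIdeal
      show Triv u (S.fromSpecResidueField (f (hV.fromSpec p))) ↔ _
      rw [← hgz, ← triv_residue_iff g, hc p.asIdeal.ResidueField, Ideal.ker_algebraMap_residueField]
    · obtain ⟨a, ha, hax⟩ := hca p hp
      refine ⟨a, ha, hax, (hc (Localization.Away a)).mpr fun x hx => ?_⟩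
      exact (IsLocalization.map_eq_zero_iff (Submonoid.powers a) _ x).mpr ⟨⟨a, Submonoid.mem_powers a⟩, hax x hx⟩
  choose V hV c hqV hT hA using hlocal
  have hclopen : IsClopen (f ⁻¹' T) := by
    have hpre : ∀ q : S', (hV q).fromSpec ⁻¹' (f ⁻¹' T) = PrimeSpectrum.zeroLocus (c q : Set Γ(S', V q)) := fun q => by
      ext p
      exact hT q p
    have hop : ∀ q : S', IsClopen ((hV q).fromSpec ⁻¹' (f ⁻¹' T)) := fun q => by
      rw [hpre]
      refine ⟨PrimeSpectrum.isClosed_zeroLocus _, isOpen_iff_forall_mem_open.mpr fun p hp => ?_⟩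
      obtain ⟨a, ha, hax, -⟩ := hA q p hp
      refine ⟨((PrimeSpectrum.basicOpen a : TopologicalSpace.Opens (PrimeSpectrum Γ(S', V q))) : Set (PrimeSpectrum Γ(S', V q))),
        fun p' hp' x hx => ?_, (PrimeSpectrum.basicOpen a).isOpen, ha⟩
      exact (p'.isPrime.mem_or_mem (show a * x ∈ p'.asIdeal by rw [hax x hx]; exact zero_mem _)).resolve_left hp'
    have key : ∀ Tset : Set S', (∀ q, IsOpen ((hV q).fromSpec ⁻¹' Tset)) → IsOpen Tset := fun Tset h => by
      refine isOpen_iff_forall_mem_open.mpr fun q hq => ⟨(hV q).fromSpec '' ((hV q).fromSpec ⁻¹' Tset),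
        Set.image_preimage_subset _ _, (hV q).fromSpec.isOpenEmbedding.isOpenMap _ (h q), ?_⟩
      obtain ⟨p, hp⟩ := (hV q).range_fromSpec.ge (hqV q)
      exact ⟨p, by show (hV q).fromSpec p ∈ Tset; rw [hp]; exact hq, hp⟩
    exact ⟨isOpen_compl_iff.mp (key _ fun q => by rw [Set.preimage_compl]; exact (hop q).compl.isOpen),
      key _ fun q => (hop q).isOpen⟩
  have hTclopen : IsOpen T ∧ IsOpen Tᶜ := by
    have key : ∀ Q : Set S, IsOpen (f ⁻¹' Q) → IsOpen Q := fun Q hQ => by
      refine isOpen_iff_forall_mem_open.mpr fun s hs => ?_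
      obtain ⟨_, ⟨VS, hVS, rfl⟩, hsV, -⟩ := S.isBasis_affineOpens.exists_subset_of_mem_open (Set.mem_univ s) isOpen_univ
      replace hVS : IsAffineOpen VS := hVS
      obtain ⟨W, hWc, hWV⟩ := hcov VS hVS
      let g : (W : Scheme.{u}) ⟶ VS := IsOpenImmersion.lift (Scheme.Opens.ι VS) (W.ι ≫ f) (by
        rw [Scheme.Hom.comp_base, TopCat.coe_comp, Set.range_comp, Scheme.Opens.range_ι, Scheme.Opens.range_ι, hWV])
      have hg : g ≫ (Scheme.Opens.ι VS) = W.ι ≫ f := IsOpenImmersion.lift_fac _ _ _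
      haveI : Flat g := by
        haveI : Flat (g ≫ (Scheme.Opens.ι VS)) := by rw [hg]; infer_instance
        exact MorphismProperty.of_postcomp (W := @Flat) (W' := @IsOpenImmersion) g (Scheme.Opens.ι VS) inferInstance ‹_›
      haveI : Surjective g := ⟨fun ⟨v, hv⟩ => by
        obtain ⟨w, hw, rfl⟩ := hWV.ge hv
        refine ⟨⟨w, hw⟩, (Scheme.Opens.ι VS).isOpenEmbedding.injective ?_⟩
        rw [← Scheme.Hom.comp_apply, hg]
        rfl⟩
      haveI : CompactSpace (W : Scheme.{u}) := isCompact_iff_compactSpace.mp hWc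
      haveI : IsAffine (VS : Scheme.{u}) := hVS
      haveI : QuasiCompact g := inferInstance
      have h1 : IsOpen ((Scheme.Opens.ι VS) ⁻¹' Q) := by
        rw [← (Flat.isQuotientMap_of_surjective g).isOpen_preimage, ← Set.preimage_comp, ← TopCat.coe_comp,
          ← Scheme.Hom.comp_base, hg, Scheme.Hom.comp_base, TopCat.coe_comp, Set.preimage_comp]
        exact hQ.preimage W.ι.continuous
      exact ⟨(Scheme.Opens.ι VS) '' ((Scheme.Opens.ι VS) ⁻¹' Q), Set.image_preimage_subset _ _, (Scheme.Opens.ι VS).isOpenEmbedding.isOpenMap _ h1,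
        ⟨⟨s, hsV⟩, hs, rfl⟩⟩
    exact ⟨key _ hclopen.isOpen, key _ (by rw [Set.preimage_compl]; exact hclopen.compl.isOpen)⟩
  let U : S.Opens := ⟨T, hTclopen.1⟩
  refine ⟨U, isOpen_compl_iff.mp hTclopen.2, fun s => Iff.rfl, ?_⟩
  haveI : Flat (f ∣_ U) := IsZariskiLocalAtTarget.restrict (P := @Flat) inferInstance U
  haveI : Surjective (f ∣_ U) := IsZariskiLocalAtTarget.restrict (P := @Surjective) inferInstance U
  refine triv_of_cover U.ι (f ∣_ U) ?_
  rw [morphismRestrict_ι]
  refine triv_of_local _ fun x => ?_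
  let q := (f ⁻¹ᵁ U).ι x
  obtain ⟨p, hp⟩ := (hV q).range_fromSpec.ge (hqV q)
  have hcp : c q ≤ p.asIdeal := (hT q p).mp (by rw [hp]; exact x.2)
  obtain ⟨a, ha, -, htr⟩ := hA q p hcp
  let o := Spec.map (CommRingCat.ofHom (algebraMap Γ(S', V q) (Localization.Away a))) ≫ (hV q).fromSpec
  haveI : IsOpenImmersion (Spec.map (CommRingCat.ofHom (algebraMap Γ(S', V q) (Localization.Away a)))) :=
    IsOpenImmersion.of_isLocalization a
  haveI : IsOpenImmersion o := inferInstance
  refine ⟨(f ⁻¹ᵁ U).ι ⁻¹ᵁ o.opensRange, ?_, ?_⟩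
  · obtain ⟨z, hz⟩ := (PrimeSpectrum.localization_away_comap_range (Localization.Away a) a).ge
      (show p ∈ (PrimeSpectrum.basicOpen a : Set (PrimeSpectrum Γ(S', V q))) from ha)
    refine ⟨z, ?_⟩
    show (hV q).fromSpec (Spec.map (CommRingCat.ofHom (algebraMap Γ(S', V q) (Localization.Away a))) z) = q
    exact (congrArg (hV q).fromSpec hz).trans hp
  · let k := IsOpenImmersion.lift o (((f ⁻¹ᵁ U).ι ⁻¹ᵁ o.opensRange).ι ≫ (f ⁻¹ᵁ U).ι) (by
      rintro _ ⟨y, rfl⟩; exact y.2)
    have := htr.comp k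
    rw [← Category.assoc (Spec.map _) (hV q).fromSpec f, ← Category.assoc k] at this
    rw [IsOpenImmersion.lift_fac, Category.assoc] at this
    exact this

end Groth.Agent.CoeffLocus
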